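import Cfsg.Agent.H211.O1.GForm

/-!
# The shape of a partition with hooks divisible by two primes below `n / 2` (helper211, S4766 O1)

`Y l i = l_i - i - 1`, `Z l j = l'_j - j - 1` (integers); `(i, j)` is a cell iff `0 ≤ Y i + Z j`, with hook
`Y i + Z j + 1`; `e x = max (2 x + 1) 0`; `energy`: `∑_{i ∈ I} e (Y i) + ∑_{j ∈ J} e (Z j) ≤ 2 n`.
-/

set_option autoImplicit false
set_option linter.unusedSectionVars false

namespace Cfsg.Agent.H211.O1

open Finset Cfsg.Agent.H704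

/-- arms -/
def Y (l : List ℕ) (i : ℕ) : ℤ := (l.getD i 0 : ℤ) - i - 1

/-- legs -/
def Z (l : List ℕ) (j : ℕ) : ℤ := (colLen l j : ℤ) - j - 1

/-- twice the energy -/
def e (x : ℤ) : ℤ := max (2 * x + 1) 0

theorem le_e (x : ℤ) : 2 * x + 1 ≤ e x := le_max_left _ _
theorem e_nonneg (x : ℤ) : 0 ≤ e x := le_max_right _ _
theorem e_of_nonneg {x : ℤ} (h : 0 ≤ x) : e x = 2 * x + 1 := max_eq_left (by omega)
theorem e_of_neg {x : ℤ} (h : x < 0) : e x = 0 := max_eq_right (by omega)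

theorem Y_transpose {l : List ℕ} (hl : Dec l) (i : ℕ) : Y (transpose l) i = Z l i := by
  unfold Y Z; rw [getD_transpose hl]

theorem Z_transpose {l : List ℕ} (hl : Dec l) (i : ℕ) : Z (transpose l) i = Y l i := by
  unfold Y Z; rw [colLen_transpose' hl]

theorem getD_anti2 {l : List ℕ} (hl : Dec l) {i j : ℕ} (h : i ≤ j) : l.getD j 0 ≤ l.getD i 0 := by
  by_contra hne
  rw [not_le] at hne
  have h1 := (lt_colLen_iff hl j (l.getD i 0)).2 hne
  have h2 := (lt_colLen_iff hl i (l.getD i 0)).1 (by omega)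
  omega

theorem Y_lt {l : List ℕ} (hl : Dec l) {i j : ℕ} (h : i < j) : Y l j < Y l i := by
  have := getD_anti2 hl h.le
  unfold Y
  omega

theorem Z_lt {l : List ℕ} {i j : ℕ} (h : i < j) : Z l j < Z l i := by
  have := colLen_anti l h.le
  unfold Z
  omega

theorem cell_iff {l : List ℕ} (hl : Dec l) (i j : ℕ) : j < l.getD i 0 ↔ 0 ≤ Y l i + Z l j := by
  have h1 := lt_colLen_iff hl i j
  unfold Y Z
  constructor
  · intro h
    have := h1.2 h
    omega
  · intro h
    by_contra hne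
    have h2 : ¬ i < colLen l j := fun h3 => hne (h1.1 h3)
    omega

theorem hk_eq {l : List ℕ} (hl : Dec l) {i j : ℕ} (h : j < l.getD i 0) : (hk l i j : ℤ) = Y l i + Z l j + 1 := by
  have h1 := (lt_colLen_iff hl i j).2 h
  unfold hk Y Z
  omega

/-! ### energy -/

/-- the size of the diagonal -/
def D (l : List ℕ) : ℕ := ((range (l.length + 1)).filter fun i => i < l.getD i 0).card

theorem lt_D_iff {l : List ℕ} (hl : Dec l) (i : ℕ) : i < D l ↔ i < l.getD i 0 := by
  unfold D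
  have hlen : ∀ k, k < l.getD k 0 → k < l.length := by
    intro k hk
    by_contra hne
    rw [List.getD_eq_default _ _ (by omega)] at hk
    omega
  constructor
  · intro h
    by_contra hne
    have h1 : ((range (l.length + 1)).filter fun i => i < l.getD i 0) ⊆ range i := by
      intro k hk
      rw [mem_filter] at hk
      rw [mem_range]
      by_contra hki
      have := getD_anti2 hl (not_lt.1 hki)
      omega
    have := card_le_card h1
    rw [card_range] at this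
    omega
  · intro h
    have h1 : range (i + 1) ⊆ ((range (l.length + 1)).filter fun i => i < l.getD i 0) := by
      intro k hk
      rw [mem_range] at hk
      rw [mem_filter, mem_range]
      have h2 := getD_anti2 hl (show k ≤ i by omega)
      have h3 : k < l.getD k 0 := by omega
      exact ⟨by have := hlen k h3; omega, h3⟩
    have := card_le_card h1
    rw [card_range] at this
    omega

theorem D_le_length {l : List ℕ} (hl : Dec l) : D l ≤ l.length := by
  by_contra hne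
  have h1 := (lt_D_iff hl l.length).1 (by omega)
  rw [List.getD_eq_default _ _ le_rfl] at h1
  omega

theorem sum_rows_cols {l : List ℕ} (hl : Dec l) :
    ∑ i ∈ range (D l), l.getD i 0 + ∑ j ∈ range (D l), colLen l j = l.sum + D l * D l := by
  have h1 : ∑ j ∈ range (D l), colLen l j = ∑ i ∈ range l.length, min (D l) (l.getD i 0) := by
    simp only [colLen_eq_sum]
    rw [sum_comm]
    apply sum_congr rfl
    intro i _
    rw [← card_filter]
    have : (range (D l)).filter (fun j => j < l.getD i 0) = range (min (D l) (l.getD i 0)) := by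
      ext j
      rw [mem_filter, mem_range, mem_range, lt_min_iff]
    rw [this, card_range]
  have h2 : l.length = D l + (l.length - D l) := by have := D_le_length hl; omega
  rw [h1, sum_eq_sum_range, h2, sum_range_add, sum_range_add]
  have h3 : ∑ x ∈ range (D l), min (D l) (l.getD x 0) = D l * D l := by
    rw [sum_congr rfl (g := fun _ => D l), sum_const, card_range, smul_eq_mul]
    intro x hx
    rw [mem_range] at hx
    have h4 := (lt_D_iff hl (D l - 1)).1 (by omega)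
    have h5 := getD_anti2 hl (show x ≤ D l - 1 by omega)
    omega
  have h4 : ∑ x ∈ range (l.length - D l), min (D l) (l.getD (D l + x) 0) = ∑ x ∈ range (l.length - D l), l.getD (D l + x) 0 := by
    apply sum_congr rfl
    intro x _
    have h5 : ¬ D l < l.getD (D l) 0 := fun h => by have := (lt_D_iff hl (D l)).2 h; omega
    have h6 := getD_anti2 hl (show D l ≤ D l + x by omega)
    omega
  rw [h3, h4]
  ring

theorem lt_D_iff' {l : List ℕ} (hl : Dec l) (i : ℕ) : i < D l ↔ i < colLen l i := by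
  rw [lt_D_iff hl, lt_colLen_iff hl]

theorem sum_e {l : List ℕ} (hl : Dec l) :
    ∑ i ∈ range (D l), e (Y l i) + ∑ j ∈ range (D l), e (Z l j) = 2 * (l.sum : ℤ) := by
  have h1 : ∀ i ∈ range (D l), e (Y l i) = 2 * (l.getD i 0 : ℤ) - (2 * i + 1) := by
    intro i hi
    rw [mem_range, lt_D_iff hl] at hi
    rw [e_of_nonneg (by unfold Y; omega)]
    unfold Y
    ring
  have h2 : ∀ i ∈ range (D l), e (Z l i) = 2 * (colLen l i : ℤ) - (2 * i + 1) := by
    intro i hi
    rw [mem_range, lt_D_iff' hl] at hi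
    rw [e_of_nonneg (by unfold Z; omega)]
    unfold Z
    ring
  rw [sum_congr rfl h1, sum_congr rfl h2, sum_sub_distrib, sum_sub_distrib, ← mul_sum, ← mul_sum]
  have h3 : ∀ k : ℕ, ∑ i ∈ range k, (2 * (i : ℤ) + 1) = (k : ℤ) * k := by
    intro k
    induction k with
    | zero => simp
    | succ k ih => rw [sum_range_succ, ih]; push_cast; ring
  rw [h3]
  have h4 := sum_rows_cols hl
  have h5 : (∑ i ∈ range (D l), (l.getD i 0 : ℤ)) + ∑ j ∈ range (D l), (colLen l j : ℤ) = (l.sum : ℤ) + D l * D l := by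
    exact_mod_cast h4
  linarith

theorem energy {l : List ℕ} (hl : Dec l) (I J : Finset ℕ) :
    ∑ i ∈ I, e (Y l i) + ∑ j ∈ J, e (Z l j) ≤ 2 * (l.sum : ℤ) := by
  have key : ∀ (f : ℕ → ℤ) (I : Finset ℕ), (∀ i, ¬ i < D l → f i = 0) → (∀ i, 0 ≤ f i) →
      ∑ i ∈ I, f i ≤ ∑ i ∈ range (D l), f i := by
    intro f I h1 h2
    calc ∑ i ∈ I, f i = ∑ i ∈ I.filter (fun i => i < D l), f i := by
          rw [sum_filter]
          apply sum_congr rfl
          intro i _
          split_ifs with h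
          · rfl
          · exact h1 i h
      _ ≤ ∑ i ∈ range (D l), f i := by
          apply sum_le_sum_of_subset_of_nonneg
          · intro i hi
            rw [mem_filter] at hi
            rw [mem_range]
            exact hi.2
          · intro i _ _
            exact h2 i
  rw [← sum_e hl]
  apply add_le_add
  · apply key
    · intro i hi
      rw [lt_D_iff hl] at hi
      exact e_of_neg (by unfold Y; omega)
    · intro i; exact e_nonneg _
  · apply key
    · intro i hi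
      rw [lt_D_iff' hl] at hi
      exact e_of_neg (by unfold Z; omega)
    · intro i; exact e_nonneg _

/-! ### two cells -/

/-- two cells with hooks `P` or `2 P` -/
def Two (l : List ℕ) (P : ℕ) : Prop := ∃ i j i' j' : ℕ, ¬ (i = i' ∧ j = j') ∧
  (Y l i + Z l j + 1 = P ∨ Y l i + Z l j + 1 = 2 * P) ∧ (Y l i' + Z l j' + 1 = P ∨ Y l i' + Z l j' + 1 = 2 * P)

theorem Y_inj {l : List ℕ} (hl : Dec l) {i j : ℕ} (h : Y l i = Y l j) : i = j := by
  rcases lt_trichotomy i j with h1 | h1 | h1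
  · have := Y_lt hl h1; omega
  · exact h1
  · have := Y_lt hl h1; omega

theorem Z_inj {l : List ℕ} {i j : ℕ} (h : Z l i = Z l j) : i = j := by
  rcases lt_trichotomy i j with h1 | h1 | h1
  · have := Z_lt (l := l) h1; omega
  · exact h1
  · have := Z_lt (l := l) h1; omega

/-- energy of one cell -/
theorem cell_energy {l : List ℕ} (hl : Dec l) (i j : ℕ) : Y l i + Z l j + 1 ≤ l.sum := by
  have h := energy hl {i} {j}
  rw [sum_singleton, sum_singleton] at h
  have h1 := le_e (Y l i)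
  have h2 := le_e (Z l j)
  omega

/-- energy of two disjoint cells and one more row -/
theorem two_energy {l : List ℕ} (hl : Dec l) {i i' j j' : ℕ} (hi : i ≠ i') (hj : j ≠ j') :
    (Y l i + Z l j + 1) + (Y l i' + Z l j' + 1) ≤ l.sum := by
  have h := energy hl {i, i'} {j, j'}
  rw [sum_pair hi, sum_pair hj] at h
  have h1 := le_e (Y l i)
  have h2 := le_e (Z l j)
  have h3 := le_e (Y l i')
  have h4 := le_e (Z l j')
  omega

theorem two_energy_row {l : List ℕ} (hl : Dec l) {i i' j j' k : ℕ} (hi : i ≠ i') (hj : j ≠ j') (hk : k ≠ i)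
    (hk' : k ≠ i') : 2 * ((Y l i + Z l j + 1) + (Y l i' + Z l j' + 1)) + (2 * Y l k + 1) ≤ 2 * l.sum := by
  have h := energy hl {k, i, i'} {j, j'}
  rw [sum_insert (by simp [hk, hk']), sum_pair hi, sum_pair hj] at h
  have h1 := le_e (Y l i)
  have h2 := le_e (Z l j)
  have h3 := le_e (Y l i')
  have h4 := le_e (Z l j')
  have h5 := le_e (Y l k)
  omega

theorem one_energy_row {l : List ℕ} (hl : Dec l) {i j k : ℕ} (hk : k ≠ i) :
    2 * (Y l i + Z l j + 1) + (2 * Y l k + 1) ≤ 2 * l.sum := by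
  have h := energy hl {k, i} {j}
  rw [sum_pair hk, sum_singleton] at h
  have h1 := le_e (Y l i)
  have h2 := le_e (Z l j)
  have h5 := le_e (Y l k)
  omega

theorem Two.norm {l : List ℕ} (hl : Dec l) {P : ℕ} (hP : l.sum < 3 * P) (h : Two l P) :
    (∃ i j i' j' : ℕ, i ≠ i' ∧ j ≠ j' ∧ Y l i + Z l j + 1 = P ∧ Y l i' + Z l j' + 1 = P) ∨
    (∃ i j i' j' : ℕ, Y l i + Z l j + 1 = 2 * P ∧ Y l i' + Z l j' + 1 = P) := by
  obtain ⟨i, j, i', j', hne, h1, h2⟩ := h
  have key : ∀ c : ℤ, Y l i + Z l j + 1 = c → Y l i' + Z l j' + 1 = c → i ≠ i' ∧ j ≠ j' := by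
    intro c h3 h4
    constructor
    · rintro rfl
      exact hne ⟨rfl, Z_inj (l := l) (by omega)⟩
    · rintro rfl
      exact hne ⟨Y_inj hl (by omega), rfl⟩
  rcases h1 with h1 | h1 <;> rcases h2 with h2 | h2
  · obtain ⟨h3, h4⟩ := key _ h1 h2
    exact Or.inl ⟨i, j, i', j', h3, h4, h1, h2⟩
  · exact Or.inr ⟨i', j', i, j, h2, h1⟩
  · exact Or.inr ⟨i, j, i', j', h1, h2⟩
  · exfalso
    obtain ⟨h3, h4⟩ := key _ h1 h2
    have := two_energy hl h3 h4
    omega

theorem Two.transpose {l : List ℕ} (hl : Dec l) {P : ℕ} (h : Two l P) : Two (transpose l) P := by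
  obtain ⟨i, j, i', j', hne, h1, h2⟩ := h
  refine ⟨j, i, j', i', fun h => hne ⟨h.2, h.1⟩, ?_, ?_⟩ <;>
    rw [Y_transpose hl, Z_transpose hl] <;> omega

theorem two_of_sq_dvd {l : List ℕ} {n P : ℕ} (hl : IsPart l n) (hP : P.Prime) (h3 : n < 3 * P) (h2 : n < P ^ 2)
    (hd : P ^ 2 ∣ hookProd l) : Two l P := by
  have hS := hl.sorted
  have hn := hl.sum
  have hle : ∀ x ∈ cells l, 0 < hk l x.1 x.2 ∧ hk l x.1 x.2 ≤ n := by
    intro x hx
    rw [mem_cells] at hx
    have h1 := hk_eq hS hx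
    have h4 := cell_energy hS x.1 x.2
    have h5 := (cell_iff hS x.1 x.2).1 hx
    omega
  have h1 : 1 < ((cells l).filter fun x => P ∣ hk l x.1 x.2).card := by
    by_contra hne
    rw [not_lt, card_le_one_iff_subset_singleton] at hne
    rw [hookProd_eq hS, ← prod_filter_mul_prod_filter_not (cells l) (fun x => P ∣ hk l x.1 x.2)] at hd
    have h4 : Nat.Coprime (P ^ 2) (∏ x ∈ (cells l).filter (fun x => ¬ P ∣ hk l x.1 x.2), hk l x.1 x.2) := by
      apply Nat.Coprime.pow_left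
      rw [Nat.coprime_prod_right_iff]
      intro x hx
      rw [mem_filter] at hx
      exact (hP.coprime_iff_not_dvd).2 hx.2
    have h5 := h4.dvd_of_dvd_mul_right hd
    obtain ⟨x, hx⟩ := hne
    rcases subset_singleton_iff.1 hx with h6 | h6
    · rw [h6, prod_empty] at h5
      have := Nat.le_of_dvd one_pos h5
      have := Nat.one_lt_pow (show 2 ≠ 0 by norm_num) hP.one_lt
      omega
    · rw [h6, prod_singleton] at h5
      have h7 : x ∈ cells l := by
        have : x ∈ (cells l).filter fun x => P ∣ hk l x.1 x.2 := by rw [h6]; exact mem_singleton_self x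
        exact (mem_filter.1 this).1
      have h8 := Nat.le_of_dvd (hle x h7).1 h5
      have := (hle x h7).2
      omega
  obtain ⟨x, hx, y, hy, hxy⟩ := one_lt_card.1 h1
  rw [mem_filter] at hx hy
  have hh : ∀ z : (Σ _ : ℕ, ℕ), z ∈ cells l → P ∣ hk l z.1 z.2 →
      Y l z.1 + Z l z.2 + 1 = P ∨ Y l z.1 + Z l z.2 + 1 = 2 * P := by
    intro z hz hdz
    have h4 := hle z hz
    rw [mem_cells] at hz
    rw [← hk_eq hS hz]
    obtain ⟨c, hc⟩ := hdz
    rw [hc] at h4 ⊢
    have h5 : c = 1 ∨ c = 2 := by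
      rcases Nat.eq_zero_or_pos c with h0 | h0
      · rw [h0] at h4; omega
      · have : c < 3 := by
          by_contra hne
          have : P * 3 ≤ P * c := Nat.mul_le_mul_left P (by omega)
          omega
        omega
    rcases h5 with rfl | rfl
    · left; push_cast; ring
    · right; push_cast; ring
  refine ⟨x.1, x.2, y.1, y.2, ?_, hh x hx.1 hx.2, hh y hy.1 hy.2⟩
  rintro ⟨h4, h5⟩
  apply hxy
  obtain ⟨x1, x2⟩ := x
  obtain ⟨y1, y2⟩ := y
  simp only at h4 h5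
  rw [h4, h5]

/-! ### the shape -/

section
variable {l : List ℕ} {n q : ℕ}

/-- one cell large in the row, all primes -/
theorem s_row (hl : Dec l) (hn : l.sum = n) {P : ℕ} (hqP : q ≤ P) (h3 : n < 3 * P) (h : Two l P)
    (hb : 2 * (n : ℤ) - 4 * q < 2 * Y l 1 + 1) : ∃ j j' : ℕ, j ≠ j' ∧ Y l 0 + Z l j + 1 = P ∧ Y l 1 + Z l j' + 1 = P := by
  have hb0 : 2 * (n : ℤ) - 4 * q < 2 * Y l 0 + 1 := by have := Y_lt hl (show 0 < 1 by norm_num); omega
  rcases h.norm hl (by omega) with ⟨i, j, i', j', hi, hj, h1, h2⟩ | ⟨i, j, i', j', h1, h2⟩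
  · have a0 : i = 0 ∨ i' = 0 := by
      by_contra hne
      have := two_energy_row hl (k := 0) hi hj (by omega) (by omega)
      omega
    have a1 : i = 1 ∨ i' = 1 := by
      by_contra hne
      have := two_energy_row hl (k := 1) hi hj (by omega) (by omega)
      omega
    rcases a0 with rfl | rfl
    · have : i' = 1 := by omega
      subst this
      exact ⟨j, j', hj, h1, h2⟩
    · have : i = 1 := by omega
      subst this
      exact ⟨j', j, fun h => hj h.symm, h2, h1⟩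
  · exfalso
    by_cases hi : i = 0
    · have := one_energy_row hl (i := i) (j := j) (k := 1) (by omega)
      omega
    · have := one_energy_row hl (i := i) (j := j) (k := 0) (by omega)
      omega

theorem one_energy_col (hl : Dec l) {i j k : ℕ} (hk : k ≠ j) :
    2 * (Y l i + Z l j + 1) + (2 * Z l k + 1) ≤ 2 * l.sum := by
  have h := one_energy_row (pairwise_transpose l) (i := j) (j := i) (k := k) hk
  rw [Y_transpose hl, Y_transpose hl, Z_transpose hl, sum_transpose hl] at h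
  omega

theorem two_energy_col (hl : Dec l) {i i' j j' k : ℕ} (hi : i ≠ i') (hj : j ≠ j') (hk : k ≠ j)
    (hk' : k ≠ j') : 2 * ((Y l i + Z l j + 1) + (Y l i' + Z l j' + 1)) + (2 * Z l k + 1) ≤ 2 * l.sum := by
  have h := two_energy_row (pairwise_transpose l) (i := j) (i' := j') (j := i) (j' := i') (k := k) hj hi hk hk'
  rw [Y_transpose hl, Y_transpose hl, Y_transpose hl, Z_transpose hl, Z_transpose hl, sum_transpose hl] at h
  omega

/-- row 1 and column 0 large -/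
theorem s_row_col (hl : Dec l) (hn : l.sum = n) {P : ℕ} (hqP : q ≤ P) (h3 : n < 3 * P) (h : Two l P)
    (hb : 2 * (n : ℤ) - 4 * q < 2 * Y l 1 + 1) (hc : 2 * (n : ℤ) - 4 * q < 2 * Z l 0 + 1) : Y l 1 + Z l 0 + 1 = P := by
  obtain ⟨j, j', hj, h1, h2⟩ := s_row hl hn hqP h3 h hb
  have a0 : j = 0 ∨ j' = 0 := by
    by_contra hne
    have := two_energy_col hl (i := 0) (i' := 1) (k := 0) (by norm_num) hj (by omega) (by omega)
    omega
  rcases a0 with rfl | rfl
  · exfalso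
    have h4 : Z l j' < Z l 0 := Z_lt (by omega)
    have h5 := Y_lt hl (show 0 < 1 by norm_num)
    omega
  · exact h2

/-- row 0 and column 0 large -/
theorem s_hook (hl : Dec l) (hn : l.sum = n) {P : ℕ} (hqP : q ≤ P) (h3 : n < 3 * P) (h : Two l P)
    (hb : 2 * (n : ℤ) - 4 * q < 2 * Y l 0 + 1) (hc : 2 * (n : ℤ) - 4 * q < 2 * Z l 0 + 1) :
    Y l 0 + Z l 0 + 1 = 2 * P ∨
      ((∃ j, 1 ≤ j ∧ Y l 0 + Z l j + 1 = P) ∧ (∃ i, 1 ≤ i ∧ Y l i + Z l 0 + 1 = P)) := by
  rcases h.norm hl (by omega) with ⟨i, j, i', j', hi, hj, h1, h2⟩ | ⟨i, j, i', j', h1, h2⟩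
  · right
    have a0 : i = 0 ∨ i' = 0 := by
      by_contra hne
      have := two_energy_row hl (k := 0) hi hj (by omega) (by omega)
      omega
    have a1 : j = 0 ∨ j' = 0 := by
      by_contra hne
      have := two_energy_col hl (k := 0) hi hj (by omega) (by omega)
      omega
    rcases a0 with rfl | rfl <;> rcases a1 with rfl | rfl
    · exfalso
      have h4 : Z l j' < Z l 0 := Z_lt (by omega)
      have h5 := Y_lt hl (show 0 < i' by omega)
      omega
    · exact ⟨⟨j, by omega, h1⟩, ⟨i', by omega, h2⟩⟩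
    · exact ⟨⟨j', by omega, h2⟩, ⟨i, by omega, h1⟩⟩
    · exfalso
      have h4 : Z l j < Z l 0 := Z_lt (by omega)
      have h5 := Y_lt hl (show 0 < i by omega)
      omega
  · left
    by_cases hi : i = 0
    · by_cases hj : j = 0
      · rw [hi, hj] at h1; exact h1
      · exfalso
        have := one_energy_col hl (i := i) (j := j) (k := 0) (by omega)
        omega
    · exfalso
      have := one_energy_row hl (i := i) (j := j) (k := 0) (by omega)
      omega

/-- only row 0 large -/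
theorem s_long (hl : Dec l) (hn : l.sum = n) {P : ℕ} (h5 : 2 * n + 1 ≤ 5 * q) (hqP : q ≤ P) (h3 : n < 3 * P) (h : Two l P)
    (hb : 2 * Y l 1 + 1 ≤ 2 * (n : ℤ) - 4 * q) (hc : 2 * Z l 0 + 1 ≤ 2 * (n : ℤ) - 4 * q) :
    (∃ j, Y l 0 + Z l j + 1 = 2 * P) ∧ (∃ j, Y l 0 + Z l j + 1 = P) := by
  have hZ : ∀ j, 2 * Z l j + 1 ≤ 2 * (n : ℤ) - 4 * q := by
    intro j
    rcases Nat.eq_zero_or_pos j with rfl | h0
    · exact hc
    · have := Z_lt (l := l) h0; omega
  have hY : ∀ i, 1 ≤ i → 2 * Y l i + 1 ≤ 2 * (n : ℤ) - 4 * q := by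
    intro i hi
    rcases Nat.eq_or_lt_of_le hi with rfl | h0
    · exact hb
    · have := Y_lt hl h0; omega
  have key : ∀ i j, (q : ℤ) ≤ Y l i + Z l j + 1 → i = 0 := by
    intro i j hij
    by_contra hne
    have h1 := hY i (by omega)
    have h2 := hZ j
    omega
  rcases h.norm hl (by omega) with ⟨i, j, i', j', hi, hj, h1, h2⟩ | ⟨i, j, i', j', h1, h2⟩
  · exfalso
    exact hi ((key i j (by omega)).trans (key i' j' (by omega)).symm)
  · have e1 := key i j (by omega)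
    have e2 := key i' j' (by omega)
    subst e1
    subst e2
    exact ⟨⟨j, h1⟩, ⟨j', h2⟩⟩

end

/-- arms and legs are complementary -/
theorem maya {l : List ℕ} (hl : Dec l) (x : ℕ) : (∃ i, Y l i = x) ∨ ∃ j, Z l j = -1 - (x : ℤ) := by
  have hex : ∃ i, Y l i ≤ x := by
    refine ⟨l.getD 0 0, ?_⟩
    have := getD_anti2 hl (Nat.zero_le (l.getD 0 0))
    unfold Y
    omega
  classical
  obtain ⟨k, hk, hmin⟩ : ∃ k, Y l k ≤ x ∧ ∀ i < k, ¬ Y l i ≤ x := ⟨Nat.find hex, Nat.find_spec hex, fun i hi => Nat.find_min hex hi⟩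
  by_cases h1 : Y l k = x
  · exact Or.inl ⟨k, h1⟩
  · right
    refine ⟨k + x, ?_⟩
    have h2 : ¬ k < colLen l (k + x) := by
      rw [lt_colLen_iff hl]
      unfold Y at hk h1
      omega
    have h3 : k ≤ colLen l (k + x) := by
      rcases Nat.eq_zero_or_pos k with h0 | h0
      · omega
      · have h4 := hmin (k - 1) (by omega)
        have h5 : k - 1 < colLen l (k + x) := by
          rw [lt_colLen_iff hl]
          unfold Y at h4
          omega
        omega
    unfold Z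
    omega

theorem hook_ne {l : List ℕ} (hl : Dec l) {u : ℕ} (hu : u.Prime) (hd : ¬ u ∣ hookProd l) (i j : ℕ) :
    Y l i + Z l j + 1 ≠ u := by
  intro h
  have h1 : j < l.getD i 0 := (cell_iff hl i j).2 (by have := hu.pos; omega)
  have h2 := hk_eq hl h1
  apply hd
  rw [hookProd_eq hl]
  have h3 : hk l i j = u := by omega
  rw [← h3]
  exact dvd_prod_of_mem (fun x : (Σ _ : ℕ, ℕ) => hk l x.1 x.2) (show (⟨i, j⟩ : Σ _ : ℕ, ℕ) ∈ cells l from (mem_cells _).2 h1)

/-- a long first row is impossible -/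
theorem long_absurd {l : List ℕ} {n : ℕ} (hl : Dec l) (hn : l.sum = n) {p1 p2 p3 : ℕ} (h12 : p2 < p1) (h23 : p3 < p2)
    (h1 : ∃ j, Y l 0 + Z l j + 1 = 2 * p1) (h2 : ∃ j, Y l 0 + Z l j + 1 = 2 * p2) (h3 : ∃ j, Y l 0 + Z l j + 1 = 2 * p3)
    (U : Finset ℕ) (hU : ∀ u ∈ U, u.Prime ∧ ¬ u ∣ hookProd l) :
    ((U.card : ℤ) + 1) * (2 * (p1 + p2 + p3) - n) ≤ 2 * n + 2 * ∑ u ∈ U, (u : ℤ) := by
  obtain ⟨j1, h1⟩ := h1
  obtain ⟨j2, h2⟩ := h2
  obtain ⟨j3, h3⟩ := h3
  have hY : 2 * ((p1 : ℤ) + p2 + p3) - n ≤ 2 * Y l 0 + 1 := by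
    have d12 : j1 ≠ j2 := by rintro rfl; omega
    have d13 : j1 ≠ j3 := by rintro rfl; omega
    have d23 : j2 ≠ j3 := by rintro rfl; omega
    have h := energy hl {0} {j1, j2, j3}
    rw [sum_singleton, sum_insert (by simp [d12, d13]), sum_pair d23] at h
    have a0 := le_e (Y l 0)
    have a1 := le_e (Z l j1)
    have a2 := le_e (Z l j2)
    have a3 := le_e (Z l j3)
    omega
  have hex : ∀ u ∈ U.filter (fun u : ℕ => (u : ℤ) ≤ Y l 0), ∃ i, Y l i = Y l 0 - u := by
    intro u hu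
    rw [mem_filter] at hu
    obtain ⟨x, hx⟩ : ∃ x : ℕ, Y l 0 - u = x := ⟨(Y l 0 - u).toNat, by omega⟩
    rcases maya hl x with ⟨i, hi⟩ | ⟨j, hj⟩
    · exact ⟨i, by omega⟩
    · exfalso
      exact hook_ne hl (hU u hu.1).1 (hU u hu.1).2 0 j (by omega)
  choose! f hf using hex
  have hinj : Set.InjOn f (U.filter (fun u : ℕ => (u : ℤ) ≤ Y l 0)) := by
    intro u hu v hv huv
    have a1 := hf u hu
    have a2 := hf v hv
    rw [huv] at a1
    omega
  have h0 : 0 ∉ (U.filter (fun u : ℕ => (u : ℤ) ≤ Y l 0)).image f := by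
    intro h
    rw [mem_image] at h
    obtain ⟨u, hu, h4⟩ := h
    have a1 := hf u hu
    rw [h4] at a1
    have := (hU u (mem_filter.1 hu).1).1.pos
    omega
  have hE := energy hl (insert 0 ((U.filter (fun u : ℕ => (u : ℤ) ≤ Y l 0)).image f)) ∅
  rw [sum_insert h0, sum_image hinj, sum_empty, add_zero, hn] at hE
  have h4 : ∑ u ∈ U, (2 * (Y l 0 - (u : ℤ)) + 1) ≤ ∑ u ∈ U.filter (fun u : ℕ => (u : ℤ) ≤ Y l 0), e (Y l (f u)) := by
    rw [← sum_filter_add_sum_filter_not U (fun u : ℕ => (u : ℤ) ≤ Y l 0)]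
    have h5 : ∑ u ∈ U.filter (fun u : ℕ => ¬ (u : ℤ) ≤ Y l 0), (2 * (Y l 0 - (u : ℤ)) + 1) ≤ 0 := by
      apply sum_nonpos
      intro u hu
      have := (mem_filter.1 hu).2
      omega
    have h6 : ∑ u ∈ U.filter (fun u : ℕ => (u : ℤ) ≤ Y l 0), (2 * (Y l 0 - (u : ℤ)) + 1) ≤
        ∑ u ∈ U.filter (fun u : ℕ => (u : ℤ) ≤ Y l 0), e (Y l (f u)) := by
      apply sum_le_sum
      intro u hu
      rw [hf u hu]
      exact le_e _
    linarith
  have h5 : ∑ u ∈ U, (2 * (Y l 0 - (u : ℤ)) + 1) = U.card * (2 * Y l 0 + 1) - 2 * ∑ u ∈ U, (u : ℤ) := by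
    have : ∀ u ∈ U, (2 * (Y l 0 - (u : ℤ)) + 1) = (2 * Y l 0 + 1) - 2 * (u : ℤ) := fun u _ => by ring
    rw [sum_congr rfl this, sum_sub_distrib, sum_const, ← mul_sum, nsmul_eq_mul]
  have a0 := le_e (Y l 0)
  have h6 : ((U.card : ℤ) + 1) * (2 * (p1 + p2 + p3) - n) ≤ ((U.card : ℤ) + 1) * (2 * Y l 0 + 1) :=
    mul_le_mul_of_nonneg_left hY (by positivity)
  have h7 : ((U.card : ℤ) + 1) * (2 * Y l 0 + 1) = U.card * (2 * Y l 0 + 1) + (2 * Y l 0 + 1) := by ring
  linarith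

/-! ### inequalities -/

theorem rows_ineq {l : List ℕ} {n : ℕ} (hl : Dec l) (hn : l.sum = n) {p q : ℕ} (hqp : q < p) (hpn : p + q + 1 ≤ n)
    (h1 : ∃ j j' : ℕ, j ≠ j' ∧ Y l 0 + Z l j + 1 = p ∧ Y l 1 + Z l j' + 1 = p)
    (h2 : ∃ j j' : ℕ, j ≠ j' ∧ Y l 0 + Z l j + 1 = q ∧ Y l 1 + Z l j' + 1 = q) :
    Y l 0 - Y l 1 ≤ n - p - q ∧ 3 * (p : ℤ) + 3 * q ≤ 2 * n + Y l 0 + Y l 1 := by
  obtain ⟨j0, j1, hj, a0, a1⟩ := h1
  obtain ⟨k0, k1, hk, b0, b1⟩ := h2
  have d0 : j0 ≠ k0 := by rintro rfl; omega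
  have d1 : j1 ≠ k1 := by rintro rfl; omega
  have hY := Y_lt hl (show 0 < 1 by norm_num)
  have d2 : k0 ≠ j1 := by rintro rfl; omega
  have y0 := le_e (Y l 0)
  have y1 := le_e (Y l 1)
  have z0 := le_e (Z l j0)
  have z1 := le_e (Z l j1)
  have w0 := le_e (Z l k0)
  have w1 := le_e (Z l k1)
  constructor
  · have h := energy hl {0, 1} {j1, k1}
    rw [sum_pair (by norm_num), sum_pair d1] at h
    omega
  · by_cases d3 : j0 = k1
    · have h := energy hl {0, 1} {j0, j1, k0}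
      rw [sum_pair (by norm_num), sum_insert (by simp [hj, d0]), sum_pair (Ne.symm d2)] at h
      subst d3
      omega
    · have h := energy hl {0, 1} {j0, j1, k0, k1}
      rw [sum_pair (by norm_num), sum_insert (by simp [hj, d0, d3]), sum_insert (by simp [Ne.symm d2, d1]),
        sum_pair hk] at h
      omega

theorem hook_ineq {l : List ℕ} {n : ℕ} (hl : Dec l) (hn : l.sum = n) {p q : ℕ} (hqp : q < p)
    (h1 : (∃ j, 1 ≤ j ∧ Y l 0 + Z l j + 1 = p) ∧ (∃ i, 1 ≤ i ∧ Y l i + Z l 0 + 1 = p))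
    (h2 : (∃ j, 1 ≤ j ∧ Y l 0 + Z l j + 1 = q) ∧ (∃ i, 1 ≤ i ∧ Y l i + Z l 0 + 1 = q)) :
    Y l 0 - Z l 0 ≤ n - p - q ∧ Z l 0 - Y l 0 ≤ n - p - q ∧ 2 * (p : ℤ) + 2 * q ≤ n + Y l 0 + Z l 0 + 1 := by
  obtain ⟨⟨j, hj, a1⟩, ⟨i, hi, a2⟩⟩ := h1
  obtain ⟨⟨k, hk, b1⟩, ⟨m, hm, b2⟩⟩ := h2
  have d0 : j ≠ k := by rintro rfl; omega
  have d1 : i ≠ m := by rintro rfl; omega
  have y0 := le_e (Y l 0)
  have y1 := le_e (Z l 0)
  have z0 := le_e (Z l j)
  have z1 := le_e (Z l k)
  have w0 := le_e (Y l i)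
  have w1 := le_e (Y l m)
  refine ⟨?_, ?_, ?_⟩
  · have h := energy hl {0, i, m} {0}
    rw [sum_insert (by simp; omega), sum_pair d1, sum_singleton] at h
    omega
  · have h := energy hl {0} {0, j, k}
    rw [sum_insert (by simp; omega), sum_pair d0, sum_singleton] at h
    omega
  · have h := energy hl {0, i, m} {0, j, k}
    rw [sum_insert (by simp; omega), sum_pair d1, sum_insert (by simp; omega), sum_pair d0] at h
    omega

/-! ### the shape theorem -/

theorem hook_of_ne {l : List ℕ} {n p q : ℕ} (hl : Dec l) (hn : l.sum = n) (hqp : q < p)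
    (h1 : Y l 0 + Z l 0 + 1 ≠ 2 * p) (h2 : Y l 0 + Z l 0 + 1 ≠ 2 * q)
    (hp : Y l 0 + Z l 0 + 1 = 2 * p ∨
      ((∃ j, 1 ≤ j ∧ Y l 0 + Z l j + 1 = p) ∧ (∃ i, 1 ≤ i ∧ Y l i + Z l 0 + 1 = p)))
    (hq : Y l 0 + Z l 0 + 1 = 2 * q ∨
      ((∃ j, 1 ≤ j ∧ Y l 0 + Z l j + 1 = q) ∧ (∃ i, 1 ≤ i ∧ Y l i + Z l 0 + 1 = q))) :
    Y l 0 - Z l 0 ≤ n - p - q ∧ Z l 0 - Y l 0 ≤ n - p - q ∧ 2 * (p : ℤ) + 2 * q ≤ n + Y l 0 + Z l 0 + 1 :=
  hook_ineq hl hn hqp (hp.resolve_left h1) (hq.resolve_left h2)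

/-- the near-hook form -/
theorem hook_out {l : List ℕ} {n : ℕ} (hl : IsPart l n) (hn0 : 0 < n) {p2 p3 : ℕ}
    (h1 : Y l 0 - Z l 0 ≤ n - p2 - p3) (h2 : Z l 0 - Y l 0 ≤ n - p2 - p3)
    (h3 : 2 * (p2 : ℤ) + 2 * p3 ≤ n + Y l 0 + Z l 0 + 1) :
    ∃ (a b s : ℕ) (σ : List ℕ), IsPart σ s ∧ n = a + b + 1 + s ∧ b ≤ a ∧ a + p2 + p3 ≤ n + b ∧
      s + 2 * p2 + 2 * p3 ≤ 2 * n ∧
      hookProd l = (a + b + 1) * G a (fun j => σ.getD j 0) * G b (colLen σ) * hookProd σ := by
  have key : ∀ l : List ℕ, IsPart l n → Y l 0 - Z l 0 ≤ n - p2 - p3 → 0 ≤ Y l 0 - Z l 0 →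
      2 * (p2 : ℤ) + 2 * p3 ≤ n + Y l 0 + Z l 0 + 1 →
      ∃ (a b s : ℕ) (σ : List ℕ), IsPart σ s ∧ n = a + b + 1 + s ∧ b ≤ a ∧ a + p2 + p3 ≤ n + b ∧
      s + 2 * p2 + 2 * p3 ≤ 2 * n ∧
      hookProd l = (a + b + 1) * G a (fun j => σ.getD j 0) * G b (colLen σ) * hookProd σ := by
    intro l hl h1 h2 h3
    cases l with
    | nil => exfalso; have := hl.sum; simp at this; omega
    | cons A t =>
      obtain ⟨a, b, s, σ, hA, hb, hσ, hns, hpr⟩ := hook_form hl
      have hY : Y (A :: t) 0 = a := by unfold Y; rw [List.getD_cons_zero, hA]; push_cast; ring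
      have hZ : Z (A :: t) 0 = b := by
        unfold Z
        rw [colLen_cons, if_pos (by omega), hb]
        push_cast
        ring
      rw [hY, hZ] at h1 h2 h3
      exact ⟨a, b, s, σ, hσ, hns, by omega, by omega, by omega, hpr⟩
  by_cases h : 0 ≤ Y l 0 - Z l 0
  · exact key l hl h1 h h3
  · obtain ⟨a, b, s, σ, r⟩ := key (transpose l) (isPart_transpose hl)
      (by rw [Y_transpose hl.sorted, Z_transpose hl.sorted]; exact h2)
      (by rw [Y_transpose hl.sorted, Z_transpose hl.sorted]; omega)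
      (by rw [Y_transpose hl.sorted, Z_transpose hl.sorted]; omega)
    rw [hookProd_transpose hl] at r
    exact ⟨a, b, s, σ, r⟩

/-- the two-row form -/
theorem rows_out {l : List ℕ} {n : ℕ} (hl : IsPart l n) {p2 p3 : ℕ} (h32 : p3 < p2) (hpn : p2 + p3 + 1 ≤ n) (h30 : 0 < p3)
    (h1 : ∃ j j' : ℕ, j ≠ j' ∧ Y l 0 + Z l j + 1 = p2 ∧ Y l 1 + Z l j' + 1 = p2)
    (h2 : ∃ j j' : ℕ, j ≠ j' ∧ Y l 0 + Z l j + 1 = p3 ∧ Y l 1 + Z l j' + 1 = p3) :
    ∃ (A B s : ℕ) (ρ : List ℕ), l = A :: B :: ρ ∧ IsPart ρ s ∧ n = A + B + s ∧ A + p2 + p3 + 1 ≤ n + B ∧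
      s + 3 + 3 * p2 + 3 * p3 ≤ 3 * n := by
  have hi := rows_ineq hl.sorted hl.sum h32 hpn h1 h2
  obtain ⟨j, j', hj, b0, b1⟩ := h2
  have hc : j' < l.getD 1 0 := (cell_iff hl.sorted 1 j').2 (by omega)
  match l, hl, hi, hc with
  | [], _, _, hc => simp at hc
  | [A], _, _, hc => simp at hc
  | A :: B :: ρ, hl, hi, hc =>
    have hY0 : Y (A :: B :: ρ) 0 = (A : ℤ) - 1 := by unfold Y; rw [List.getD_cons_zero]; push_cast; ring
    have hY1 : Y (A :: B :: ρ) 1 = (B : ℤ) - 2 := by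
      unfold Y; rw [List.getD_cons_succ, List.getD_cons_zero]; push_cast; ring
    rw [hY0, hY1] at hi
    have hs := hl.sum
    rw [List.sum_cons, List.sum_cons] at hs
    refine ⟨A, B, ρ.sum, ρ, rfl, ⟨hl.sorted.of_cons.of_cons,
      fun c hc => hl.pos c (List.mem_cons_of_mem _ (List.mem_cons_of_mem _ hc)), rfl⟩, by omega, by omega, by omega⟩

theorem shape {l : List ℕ} {n p1 p2 p3 : ℕ} (hl : IsPart l n) (h12 : p2 < p1) (h23 : p3 < p2) (h1 : 2 * p1 ≤ n)
    (h5 : 2 * n + 1 ≤ 5 * p3) (t1 : Two l p1) (t2 : Two l p2) (t3 : Two l p3) (U : Finset ℕ)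
    (hU : ∀ u ∈ U, u.Prime ∧ ¬ u ∣ hookProd l)
    (hUs : 2 * (n : ℤ) + 2 * ∑ u ∈ U, (u : ℤ) < ((U.card : ℤ) + 1) * (2 * (p1 + p2 + p3) - n)) :
    ∃ l' : List ℕ, IsPart l' n ∧ hookProd l' = hookProd l ∧
      ((∃ (a b s : ℕ) (σ : List ℕ), IsPart σ s ∧ n = a + b + 1 + s ∧ b ≤ a ∧ a + p2 + p3 ≤ n + b ∧
          s + 2 * p2 + 2 * p3 ≤ 2 * n ∧
          hookProd l' = (a + b + 1) * G a (fun j => σ.getD j 0) * G b (colLen σ) * hookProd σ) ∨
        (∃ (A B s : ℕ) (ρ : List ℕ), l' = A :: B :: ρ ∧ IsPart ρ s ∧ n = A + B + s ∧ A + p2 + p3 + 1 ≤ n + B ∧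
          s + 3 + 3 * p2 + 3 * p3 ≤ 3 * n)) := by
  have hS := hl.sorted
  have hn := hl.sum
  have hST := pairwise_transpose l
  have hnT : (transpose l).sum = n := by rw [sum_transpose hS, hn]
  have hlT := isPart_transpose hl
  have hT := hookProd_transpose hl
  have u1 := t1.transpose hS
  have u2 := t2.transpose hS
  have u3 := t3.transpose hS
  by_cases bY1 : 2 * (n : ℤ) - 4 * p3 < 2 * Y l 1 + 1
  · by_cases bZ0 : 2 * (n : ℤ) - 4 * p3 < 2 * Z l 0 + 1
    · exfalso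
      have e2 := s_row_col hS hn (q := p3) h23.le (by omega) t2 bY1 bZ0
      have e3 := s_row_col hS hn (q := p3) le_rfl (by omega) t3 bY1 bZ0
      omega
    · obtain ⟨A, B, s, ρ, hA, r⟩ := rows_out hl h23 (by omega) (by omega) (s_row hS hn (q := p3) h23.le (by omega) t2 bY1)
        (s_row hS hn (q := p3) le_rfl (by omega) t3 bY1)
      exact ⟨l, hl, rfl, Or.inr ⟨A, B, s, ρ, hA, r⟩⟩
  by_cases bZ1 : 2 * (n : ℤ) - 4 * p3 < 2 * Z l 1 + 1
  · rw [← Y_transpose hS] at bZ1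
    by_cases bY0 : 2 * (n : ℤ) - 4 * p3 < 2 * Y l 0 + 1
    · exfalso
      rw [← Z_transpose hS] at bY0
      have e2 := s_row_col hST hnT (q := p3) h23.le (by omega) u2 bZ1 bY0
      have e3 := s_row_col hST hnT (q := p3) le_rfl (by omega) u3 bZ1 bY0
      omega
    · obtain ⟨A, B, s, ρ, hA, r⟩ := rows_out hlT h23 (by omega) (by omega)
        (s_row hST hnT (q := p3) h23.le (by omega) u2 bZ1) (s_row hST hnT (q := p3) le_rfl (by omega) u3 bZ1)
      exact ⟨transpose l, hlT, hT, Or.inr ⟨A, B, s, ρ, hA, r⟩⟩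
  by_cases bY0 : 2 * (n : ℤ) - 4 * p3 < 2 * Y l 0 + 1
  · by_cases bZ0 : 2 * (n : ℤ) - 4 * p3 < 2 * Z l 0 + 1
    · -- near-hook
      have k1 := s_hook hS hn (q := p3) (by omega) (by omega) t1 bY0 bZ0
      have k2 := s_hook hS hn (q := p3) h23.le (by omega) t2 bY0 bZ0
      have k3 := s_hook hS hn (q := p3) le_rfl (by omega) t3 bY0 bZ0
      refine ⟨l, hl, rfl, Or.inl ?_⟩
      by_cases c3 : Y l 0 + Z l 0 + 1 = 2 * p3
      · obtain ⟨r1, r2, r3⟩ := hook_of_ne hS hn h12 (by omega) (by omega) k1 k2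
        exact hook_out hl (by omega) (by omega) (by omega) (by omega)
      · by_cases c2 : Y l 0 + Z l 0 + 1 = 2 * p2
        · obtain ⟨r1, r2, r3⟩ := hook_of_ne hS hn (h23.trans h12) (by omega) c3 k1 k3
          exact hook_out hl (by omega) (by omega) (by omega) (by omega)
        · obtain ⟨r1, r2, r3⟩ := hook_of_ne hS hn h23 c2 c3 k2 k3
          exact hook_out hl (by omega) r1 r2 r3
    · exfalso
      have k1 := s_long hS hn h5 (by omega) (by omega) t1 (by omega) (by omega)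
      have k2 := s_long hS hn h5 h23.le (by omega) t2 (by omega) (by omega)
      have k3 := s_long hS hn h5 le_rfl (by omega) t3 (by omega) (by omega)
      have := long_absurd hS hn h12 h23 k1.1 k2.1 k3.1 U hU
      omega
  · by_cases bZ0 : 2 * (n : ℤ) - 4 * p3 < 2 * Z l 0 + 1
    · exfalso
      have z0 := Z_transpose hS 0
      have y0 := Y_transpose hS 0
      have y1 := Y_transpose hS 1
      have k1 := s_long hST hnT h5 (by omega) (by omega) u1 (by omega) (by omega)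
      have k2 := s_long hST hnT h5 h23.le (by omega) u2 (by omega) (by omega)
      have k3 := s_long hST hnT h5 le_rfl (by omega) u3 (by omega) (by omega)
      have := long_absurd hST hnT h12 h23 k1.1 k2.1 k3.1 U (by rw [hT]; exact hU)
      omega
    · exfalso
      obtain ⟨i, j, i', j', -, h6, -⟩ := t3
      have hYi : Y l i ≤ Y l 0 := by
        rcases Nat.eq_zero_or_pos i with rfl | h0
        · exact le_rfl
        · exact (Y_lt hS h0).le
      have hZj : Z l j ≤ Z l 0 := by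
        rcases Nat.eq_zero_or_pos j with rfl | h0
        · exact le_rfl
        · exact (Z_lt h0).le
      omega

end Cfsg.Agent.H211.O1
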